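import Mathlib

/-!
# Project CHEN (helper88) = S4184: Chen's lemma for Thompson's conjecture — definitions and basic facts

`cls x` is the size of the conjugacy class of `x`, as the index of the centraliser.
`TA A m n`, `TB A m n`: the two "types" of a class size `n` dividing `m = |M|` relative to a set of primes `A`.
-/

set_option autoImplicit false

namespace Cfsg.Agent.Lib.Helper88.Chen

/-- the class size of `x` -/
noncomputable def cls {G : Type*} [Group G] (x : G) : ℕ := (Subgroup.centralizer ({x} : Set G)).index

theorem cls_def {G : Type*} [Group G] (x : G) :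
    cls x = (Subgroup.centralizer ({x} : Set G)).index := rfl

theorem card_centralizer_mul_cls {G : Type*} [Group G] (x : G) :
    Nat.card (Subgroup.centralizer ({x} : Set G)) * cls x = Nat.card G :=
  Subgroup.card_mul_index _

theorem cls_dvd_card {G : Type*} [Group G] (x : G) : cls x ∣ Nat.card G :=
  Subgroup.index_dvd_card _

theorem cls_pos {G : Type*} [Group G] [Finite G] (x : G) : 0 < cls x :=
  Nat.pos_of_ne_zero Subgroup.index_ne_zero_of_finite

/-- type A: no prime outside `A` divides `m / n` -/
def TA (A : Set ℕ) (m n : ℕ) : Prop := ∀ b : ℕ, b.Prime → b ∉ A → ¬ b ∣ m / n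

/-- type B: no prime of `A` divides `m / n` -/
def TB (A : Set ℕ) (m n : ℕ) : Prop := ∀ a : ℕ, a.Prime → a ∈ A → ¬ a ∣ m / n

end Cfsg.Agent.Lib.Helper88.Chen
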