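import Mathlib
import Cfsg.Agent.Lib.Helper88.Chen.Defs

/-!
# Project CHEN (helper88) = S4184: modules [CHEN-CONJ] and [CHEN-A]
-/

set_option autoImplicit false

namespace Cfsg.Agent.Lib.Helper88.Chen

/-- **[CHEN-CONJ]** class sizes are conjugation invariant -/
theorem cls_conj {G : Type*} [Group G] (g x : G) : cls (g * x * g⁻¹) = cls x := by
  have h1 : Subgroup.centralizer ({g * x * g⁻¹} : Set G) =
      (Subgroup.centralizer ({x} : Set G)).comap (MulAut.conj g⁻¹).toMonoidHom := by
    ext h
    rw [Subgroup.mem_comap, Subgroup.mem_centralizer_singleton_iff,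
      Subgroup.mem_centralizer_singleton_iff]
    simp only [MulEquiv.coe_toMonoidHom, MulAut.conj_apply, inv_inv]
    constructor
    · intro h2
      calc g⁻¹ * h * g * x = g⁻¹ * (h * (g * x * g⁻¹)) * g := by group
        _ = g⁻¹ * ((g * x * g⁻¹) * h) * g := by rw [h2]
        _ = x * (g⁻¹ * h * g) := by group
    · intro h2
      calc h * (g * x * g⁻¹) = g * ((g⁻¹ * h * g) * x) * g⁻¹ := by group
        _ = g * (x * (g⁻¹ * h * g)) * g⁻¹ := by rw [h2]
        _ = g * x * g⁻¹ * h := by group
  unfold cls
  rw [h1]
  exact Subgroup.index_comap_of_surjective _ (MulAut.conj g⁻¹).surjective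

/-- **[CHEN-CONJ]** -/
theorem cls_eq_one_iff {G : Type*} [Group G] (x : G) : cls x = 1 ↔ x ∈ Subgroup.center G := by
  unfold cls
  rw [Subgroup.index_eq_one, Subgroup.mem_center_iff, eq_top_iff]
  constructor
  · intro h g
    exact Subgroup.mem_centralizer_singleton_iff.mp (h (Subgroup.mem_top g))
  · intro h g _
    exact Subgroup.mem_centralizer_singleton_iff.mpr (h g)

theorem centralizer_mul_le_left {G : Type*} [Group G] [Finite G] (x y : G) (hc : x * y = y * x)
    (hco : (orderOf x).Coprime (orderOf y)) :
    Subgroup.centralizer ({x * y} : Set G) ≤ Subgroup.centralizer ({x} : Set G) := by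
  intro g hg
  rw [Subgroup.mem_centralizer_singleton_iff] at hg ⊢
  have hcomm : Commute x y := hc
  -- `g` commutes with `(x y)^(o y) = x^(o y)`
  have h1 : (x * y) ^ orderOf y = x ^ orderOf y := by
    rw [hcomm.mul_pow, pow_orderOf_eq_one, mul_one]
  have h2 : Commute g (x * y) := hg
  have h3 : Commute g (x ^ orderOf y) := by
    rw [← h1]; exact h2.pow_right _
  obtain ⟨k, hk⟩ := exists_pow_eq_self_of_coprime (x := x) (n := orderOf y) hco.symm
  have h4 : Commute g x := by
    rw [← hk]; exact h3.pow_right k
  exact h4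

/-- **[CHEN-A]** commuting elements of coprime orders: both class sizes divide the class size of the product -/
theorem cls_dvd_cls_mul {G : Type*} [Group G] [Finite G] (x y : G) (hc : x * y = y * x)
    (hco : (orderOf x).Coprime (orderOf y)) : cls x ∣ cls (x * y) ∧ cls y ∣ cls (x * y) := by
  constructor
  · exact Subgroup.index_dvd_of_le (centralizer_mul_le_left x y hc hco)
  · have h1 := centralizer_mul_le_left y x hc.symm hco.symm
    rw [← hc] at h1
    exact Subgroup.index_dvd_of_le h1

end Cfsg.Agent.Lib.Helper88.Chen
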