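import Mathlib
import Cfsg.Agent.Lib.Helper88.Chen.Defs
import Cfsg.Agent.Lib.Helper88.Chen.ChenA

/-!
# Project CHEN (helper88) = S4184: module [CHEN-KEY] (the Sylow-of-centraliser argument) and helper lemmas
-/

set_option autoImplicit false

namespace Cfsg.Agent.Lib.Helper88.Chen

variable {G : Type*} [Group G] [Finite G]

/-- a non-trivial `p`-subgroup has a non-trivial element commuting with all its elements -/
theorem exists_center_elt {p : ℕ} [Fact p.Prime] (H : Subgroup G) (hH : IsPGroup p H) (hH1 : H ≠ ⊥) :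
    ∃ z ∈ H, z ≠ 1 ∧ ∀ h ∈ H, h * z = z * h := by
  haveI : Nontrivial H := (Subgroup.nontrivial_iff_ne_bot H).mpr hH1
  haveI := hH.center_nontrivial
  obtain ⟨z, hz⟩ := exists_ne (1 : Subgroup.center ↥H)
  refine ⟨((z : ↥H) : G), (z : ↥H).2, ?_, ?_⟩
  · intro h1
    apply hz
    apply Subtype.ext
    apply Subtype.ext
    exact h1
  · intro h hh
    have h1 := Subgroup.mem_center_iff.mp z.2 ⟨h, hh⟩
    exact congrArg Subtype.val h1

/-- valuations of `|C(x)|` and of the class size add up -/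
theorem factorization_centralizer_add (x : G) (p : ℕ) :
    (Nat.card (Subgroup.centralizer ({x} : Set G))).factorization p + (cls x).factorization p =
      (Nat.card G).factorization p := by
  have h1 := card_centralizer_mul_cls x
  have h2 : Nat.card (Subgroup.centralizer ({x} : Set G)) ≠ 0 := Nat.card_pos.ne'
  have h3 : cls x ≠ 0 := (cls_pos x).ne'
  rw [← h1, Nat.factorization_mul h2 h3]
  rfl

/-- if a Sylow `p`-subgroup centralises `z` then `p` does not divide the class size of `z` -/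
theorem not_dvd_cls_of_le {p : ℕ} [Fact p.Prime] (P : Sylow p G) (z : G)
    (hP : (P : Subgroup G) ≤ Subgroup.centralizer ({z} : Set G)) : ¬ p ∣ cls z := by
  have hp : p.Prime := Fact.out
  intro hdvd
  have h1 : Nat.card (P : Subgroup G) ∣ Nat.card (Subgroup.centralizer ({z} : Set G)) :=
    Subgroup.card_dvd_of_le hP
  rw [Sylow.card_eq_multiplicity] at h1
  have h2 : p ^ ((Nat.card G).factorization p + 1) ∣ Nat.card G := by
    have h3 := mul_dvd_mul h1 hdvd
    rw [card_centralizer_mul_cls z, ← pow_succ] at h3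
    exact h3
  exact Nat.pow_succ_factorization_not_dvd Nat.card_pos.ne' hp h2

/-- commuting non-trivial elements of coprime orders have the same type -/
theorem same_type (T₁ T₂ : ℕ → Prop)
    (ha : ∀ x : G, x ≠ 1 → T₁ (cls x) ∨ T₂ (cls x))
    (hb : ∀ x : G, ¬ (T₁ (cls x) ∧ T₂ (cls x)))
    (hc₁ : ∀ x y : G, cls x ∣ cls y → T₁ (cls x) → T₁ (cls y))
    (hc₂ : ∀ x y : G, cls x ∣ cls y → T₂ (cls x) → T₂ (cls y))
    (x y : G) (hy : y ≠ 1) (hc : x * y = y * x) (hco : (orderOf x).Coprime (orderOf y))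
    (hx : T₂ (cls x)) : T₂ (cls y) := by
  obtain ⟨h1, h2⟩ := cls_dvd_cls_mul x y hc hco
  have h3 : T₂ (cls (x * y)) := hc₂ x (x * y) h1 hx
  rcases ha y hy with h4 | h4
  · exact absurd ⟨hc₁ y (x * y) h2 h4, h3⟩ (hb (x * y))
  · exact h4

/-- orders of a `q`-element and a `p`-element are coprime -/
theorem coprime_orderOf_of_mem {p q : ℕ} [Fact p.Prime] [Fact q.Prime] (hpq : p ≠ q)
    (H K : Subgroup G) (hH : IsPGroup q H) (hK : IsPGroup p K) (x y : G) (hx : x ∈ H) (hy : y ∈ K) :
    (orderOf x).Coprime (orderOf y) := by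
  have hp : p.Prime := Fact.out
  have hq : q.Prime := Fact.out
  obtain ⟨k, hk⟩ := hH ⟨x, hx⟩
  obtain ⟨l, hl⟩ := hK ⟨y, hy⟩
  have hk' : x ^ q ^ k = 1 := by simpa using congrArg Subtype.val hk
  have hl' : y ^ p ^ l = 1 := by simpa using congrArg Subtype.val hl
  have h1 : orderOf x ∣ q ^ k := orderOf_dvd_of_pow_eq_one hk'
  have h2 : orderOf y ∣ p ^ l := orderOf_dvd_of_pow_eq_one hl'
  have h3 : (q ^ k).Coprime (p ^ l) :=
    Nat.Coprime.pow k l ((Nat.coprime_primes hq hp).mpr (Ne.symm hpq))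
  exact Nat.Coprime.of_dvd h1 h2 h3

/-- **[CHEN-KEY]** the Sylow-of-centraliser trick -/
theorem key (T₁ T₂ : ℕ → Prop)
    (ha : ∀ x : G, x ≠ 1 → T₁ (cls x) ∨ T₂ (cls x))
    (hb : ∀ x : G, ¬ (T₁ (cls x) ∧ T₂ (cls x)))
    (hc₁ : ∀ x y : G, cls x ∣ cls y → T₁ (cls x) → T₁ (cls y))
    (hc₂ : ∀ x y : G, cls x ∣ cls y → T₂ (cls x) → T₂ (cls y))
    (p q : ℕ) [Fact p.Prime] [Fact q.Prime] (hpq : p ≠ q) (hq : q ∣ Nat.card G)
    (hi : ∀ x : G, T₁ (cls x) → q ∣ cls x)
    (f : ℕ) (hf : f ≠ 0)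
    (hii : ∀ x : G, T₂ (cls x) → (cls x).factorization p = f)
    (hiii : f < (Nat.card G).factorization p) : False := by
  have hp : p.Prime := Fact.out
  have hqp : q.Prime := Fact.out
  have hg0 : Nat.card G ≠ 0 := Nat.card_pos.ne'
  -- Step 1: `w` in the centre of a Sylow `q`-subgroup
  let Q : Sylow q G := default
  have hQ1 : (Q : Subgroup G) ≠ ⊥ := by
    intro h0
    have h1 : Nat.card (Q : Subgroup G) = 1 := by rw [h0]; exact Subgroup.card_bot
    rw [Sylow.card_eq_multiplicity] at h1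
    have h2 : 1 ≤ (Nat.card G).factorization q := (hqp.dvd_iff_one_le_factorization hg0).mp hq
    have h3 : q ^ 1 ∣ q ^ (Nat.card G).factorization q := pow_dvd_pow q h2
    rw [h1, pow_one] at h3
    exact hqp.one_lt.ne' (Nat.dvd_one.mp h3)
  obtain ⟨w, hwQ, hw1, hwc⟩ := exists_center_elt (Q : Subgroup G) Q.isPGroup' hQ1
  have hQw : (Q : Subgroup G) ≤ Subgroup.centralizer ({w} : Set G) := by
    intro h hh
    exact Subgroup.mem_centralizer_singleton_iff.mpr (hwc h hh)
  have hw2 : T₂ (cls w) := by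
    rcases ha w hw1 with h1 | h1
    · exact absurd (hi w h1) (not_dvd_cls_of_le Q w hQw)
    · exact h1
  -- Step 2: a Sylow `p`-subgroup of `C(w)`
  have hCw : (Nat.card (Subgroup.centralizer ({w} : Set G))).factorization p + f =
      (Nat.card G).factorization p := by
    rw [← hii w hw2]; exact factorization_centralizer_add w p
  let R : Sylow p ↥(Subgroup.centralizer ({w} : Set G)) := default
  obtain ⟨RG, hRG⟩ : ∃ RG : Subgroup G,
      RG = (R : Subgroup ↥(Subgroup.centralizer ({w} : Set G))).map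
        (Subgroup.centralizer ({w} : Set G)).subtype := ⟨_, rfl⟩
  have hRGp : IsPGroup p RG := by
    rw [hRG]; exact R.isPGroup'.map _
  have hRGcard : Nat.card RG =
      p ^ (Nat.card (Subgroup.centralizer ({w} : Set G))).factorization p := by
    rw [hRG, Subgroup.card_map_of_injective (Subgroup.subtype_injective _)]
    exact Sylow.card_eq_multiplicity R
  have hRGw : RG ≤ Subgroup.centralizer ({w} : Set G) := by
    rw [hRG]; exact Subgroup.map_subtype_le _
  have hkpos : (Nat.card (Subgroup.centralizer ({w} : Set G))).factorization p ≠ 0 := by omega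
  have hRG1 : RG ≠ ⊥ := by
    intro h0
    have h1 : Nat.card RG = 1 := by rw [h0]; exact Subgroup.card_bot
    rw [hRGcard] at h1
    have h2 : p ∣ p ^ (Nat.card (Subgroup.centralizer ({w} : Set G))).factorization p :=
      dvd_pow_self p hkpos
    rw [h1] at h2
    exact hp.one_lt.ne' (Nat.dvd_one.mp h2)
  -- all non-trivial elements of `RG` are of type 2
  have hRGT : ∀ r ∈ RG, r ≠ 1 → T₂ (cls r) := by
    intro r hr hr1
    have hcomm : w * r = r * w :=
      (Subgroup.mem_centralizer_singleton_iff.mp (hRGw hr)).symm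
    exact same_type T₁ T₂ ha hb hc₁ hc₂ w r hr1 hcomm
      (coprime_orderOf_of_mem hpq (Q : Subgroup G) RG Q.isPGroup' hRGp w r hwQ hr) hw2
  -- Step 3: `u` in the centre of `RG`
  obtain ⟨u, huR, hu1, huc⟩ := exists_center_elt RG hRGp hRG1
  have hu2 : T₂ (cls u) := hRGT u huR hu1
  have hCu : (Nat.card (Subgroup.centralizer ({u} : Set G))).factorization p + f =
      (Nat.card G).factorization p := by
    rw [← hii u hu2]; exact factorization_centralizer_add u p
  obtain ⟨P, hRP⟩ := hRGp.exists_le_sylow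
  -- `D = C_P(u)` equals `RG`
  have hDp : IsPGroup p ↥((P : Subgroup G) ⊓ Subgroup.centralizer ({u} : Set G)) :=
    P.isPGroup'.to_le inf_le_left
  have hRD : RG ≤ (P : Subgroup G) ⊓ Subgroup.centralizer ({u} : Set G) := by
    intro r hr
    exact ⟨hRP hr, Subgroup.mem_centralizer_singleton_iff.mpr (huc r hr)⟩
  have hDcard : Nat.card ↥((P : Subgroup G) ⊓ Subgroup.centralizer ({u} : Set G)) ≤ Nat.card RG := by
    obtain ⟨k, hk⟩ := IsPGroup.iff_card.mp hDp
    have h1 : p ^ k ∣ Nat.card (Subgroup.centralizer ({u} : Set G)) := by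
      rw [← hk]; exact Subgroup.card_dvd_of_le inf_le_right
    have h2 : k ≤ (Nat.card (Subgroup.centralizer ({u} : Set G))).factorization p :=
      (hp.pow_dvd_iff_le_factorization Nat.card_pos.ne').mp h1
    rw [hk, hRGcard]
    apply Nat.pow_le_pow_right hp.pos
    omega
  have hDR : RG = (P : Subgroup G) ⊓ Subgroup.centralizer ({u} : Set G) :=
    Subgroup.eq_of_le_of_card_ge hRD hDcard
  -- Step 4: the centre of `P`
  have hP1 : (P : Subgroup G) ≠ ⊥ := by
    intro h0
    apply hRG1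
    rw [eq_bot_iff, ← h0]; exact hRP
  obtain ⟨z, hzP, hz1, hzc⟩ := exists_center_elt (P : Subgroup G) P.isPGroup' hP1
  have hPz : (P : Subgroup G) ≤ Subgroup.centralizer ({z} : Set G) := by
    intro h hh
    exact Subgroup.mem_centralizer_singleton_iff.mpr (hzc h hh)
  have hzR : z ∈ RG := by
    rw [hDR]
    refine ⟨hzP, Subgroup.mem_centralizer_singleton_iff.mpr ?_⟩
    exact (hzc u (hRP huR)).symm
  have hz2 : T₂ (cls z) := hRGT z hzR hz1
  have h1 : (cls z).factorization p = f := hii z hz2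
  have h2 : p ∣ cls z := by
    apply (hp.dvd_iff_one_le_factorization (cls_pos z).ne').mpr
    omega
  exact not_dvd_cls_of_le P z hPz h2

end Cfsg.Agent.Lib.Helper88.Chen
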