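import Mathlib
import Cfsg.Agent.Lib.Helper88.Chen.Defs
import Cfsg.Agent.Lib.Helper88.Chen.ChenA
import Cfsg.Agent.Lib.Helper88.Chen.ChenKey

/-!
# Project CHEN (helper88) = S4184: module [CHEN-KEY0] (a prime dividing `|G|` but no class size)
-/

set_option autoImplicit false

namespace Cfsg.Agent.Lib.Helper88.Chen

variable {G : Type*} [Group G] [Finite G]

/-- a Sylow subgroup for a prime dividing the order is non-trivial -/
theorem sylow_ne_bot {q : ℕ} [Fact q.Prime] (hq : q ∣ Nat.card G) (Q : Sylow q G) :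
    (Q : Subgroup G) ≠ ⊥ := by
  have hqp : q.Prime := Fact.out
  intro h0
  have h1 : Nat.card (Q : Subgroup G) = 1 := by rw [h0]; exact Subgroup.card_bot
  rw [Sylow.card_eq_multiplicity] at h1
  have h2 : 1 ≤ (Nat.card G).factorization q :=
    (hqp.dvd_iff_one_le_factorization Nat.card_pos.ne').mp hq
  have h3 : q ^ 1 ∣ q ^ (Nat.card G).factorization q := pow_dvd_pow q h2
  rw [h1, pow_one] at h3
  exact hqp.one_lt.ne' (Nat.dvd_one.mp h3)

/-- if `p` does not divide the class size of `s`, some conjugate of a given Sylow `p`-subgroup centralises `s`: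
there is a Sylow `p`-subgroup of `G` inside `C(s)` -/
theorem exists_sylow_le_centralizer {p : ℕ} [Fact p.Prime] (s : G) (hs : ¬ p ∣ cls s) :
    ∃ P : Sylow p G, (P : Subgroup G) ≤ Subgroup.centralizer ({s} : Set G) := by
  have hp : p.Prime := Fact.out
  let R : Sylow p ↥(Subgroup.centralizer ({s} : Set G)) := default
  have hcard : Nat.card ((R : Subgroup ↥(Subgroup.centralizer ({s} : Set G))).map
      (Subgroup.centralizer ({s} : Set G)).subtype) = p ^ (Nat.card G).factorization p := by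
    rw [Subgroup.card_map_of_injective (Subgroup.subtype_injective _), Sylow.card_eq_multiplicity R]
    congr 1
    have h1 := factorization_centralizer_add s p
    rw [Nat.factorization_eq_zero_of_not_dvd hs, add_zero] at h1
    exact h1
  exact ⟨Sylow.ofCard _ hcard, by
    rw [Sylow.coe_ofCard]; exact Subgroup.map_subtype_le _⟩

/-- **[CHEN-KEY0]** a prime dividing `|G|` but no class size -/
theorem key0 (T₁ T₂ : ℕ → Prop)
    (ha : ∀ x : G, x ≠ 1 → T₁ (cls x) ∨ T₂ (cls x))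
    (hb : ∀ x : G, ¬ (T₁ (cls x) ∧ T₂ (cls x)))
    (hc₁ : ∀ x y : G, cls x ∣ cls y → T₁ (cls x) → T₁ (cls y))
    (hc₂ : ∀ x y : G, cls x ∣ cls y → T₂ (cls x) → T₂ (cls y))
    (p a₀ b₀ : ℕ) [Fact p.Prime] [Fact a₀.Prime] [Fact b₀.Prime] (hpa : p ≠ a₀) (hpb : p ≠ b₀)
    (ha₀ : a₀ ∣ Nat.card G) (hb₀ : b₀ ∣ Nat.card G)
    (hi₁ : ∀ x : G, T₁ (cls x) → b₀ ∣ cls x)
    (hi₂ : ∀ x : G, T₂ (cls x) → a₀ ∣ cls x)
    (hp : ∀ x : G, ¬ p ∣ cls x) (hpG : p ∣ Nat.card G) : False := by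
  have ha' : ∀ x : G, x ≠ 1 → T₂ (cls x) ∨ T₁ (cls x) := fun x hx => (ha x hx).symm
  have hb' : ∀ x : G, ¬ (T₂ (cls x) ∧ T₁ (cls x)) := fun x hx => hb x ⟨hx.2, hx.1⟩
  -- `w`: type 2, a `b₀`-element
  let Q : Sylow b₀ G := default
  obtain ⟨w, hwQ, hw1, hwc⟩ := exists_center_elt (Q : Subgroup G) Q.isPGroup' (sylow_ne_bot hb₀ Q)
  have hQw : (Q : Subgroup G) ≤ Subgroup.centralizer ({w} : Set G) := fun h hh =>
    Subgroup.mem_centralizer_singleton_iff.mpr (hwc h hh)
  have hw2 : T₂ (cls w) := by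
    rcases ha w hw1 with h1 | h1
    · exact absurd (hi₁ w h1) (not_dvd_cls_of_le Q w hQw)
    · exact h1
  -- `s`: type 1, an `a₀`-element
  let S : Sylow a₀ G := default
  obtain ⟨s, hsS, hs1, hsc⟩ := exists_center_elt (S : Subgroup G) S.isPGroup' (sylow_ne_bot ha₀ S)
  have hSs : (S : Subgroup G) ≤ Subgroup.centralizer ({s} : Set G) := fun h hh =>
    Subgroup.mem_centralizer_singleton_iff.mpr (hsc h hh)
  have hs2 : T₁ (cls s) := by
    rcases ha s hs1 with h1 | h1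
    · exact h1
    · exact absurd (hi₂ s h1) (not_dvd_cls_of_le S s hSs)
  -- Sylow `p`-subgroups inside the two centralisers
  obtain ⟨P₁, hP₁⟩ := exists_sylow_le_centralizer (p := p) s (hp s)
  obtain ⟨P₂, hP₂⟩ := exists_sylow_le_centralizer (p := p) w (hp w)
  obtain ⟨z, hzP, hz1, -⟩ := exists_center_elt (P₁ : Subgroup G) P₁.isPGroup' (sylow_ne_bot hpG P₁)
  -- `z` has type 1
  have hz2 : T₁ (cls z) := by
    have hcomm : s * z = z * s := (Subgroup.mem_centralizer_singleton_iff.mp (hP₁ hzP)).symm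
    exact same_type T₂ T₁ ha' hb' hc₂ hc₁ s z hz1 hcomm
      (coprime_orderOf_of_mem hpa (S : Subgroup G) (P₁ : Subgroup G) S.isPGroup' P₁.isPGroup'
        s z hsS hzP) hs2
  -- a conjugate of `z` lies in `P₂` and has type 2
  obtain ⟨g, hg⟩ := MulAction.exists_smul_eq G P₁ P₂
  have hgz : g * z * g⁻¹ ∈ (P₂ : Subgroup G) := by
    rw [← hg, Sylow.coe_subgroup_smul, Subgroup.mem_pointwise_smul_iff_inv_smul_mem]
    simp only [MulAut.smul_def, MulAut.conj_inv_apply]
    have : g⁻¹ * (g * z * g⁻¹) * g = z := by group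
    rw [this]; exact hzP
  have hgz1 : g * z * g⁻¹ ≠ 1 := by
    intro h1
    apply hz1
    have : z = g⁻¹ * (g * z * g⁻¹) * g := by group
    rw [this, h1]; group
  have hgz2 : T₂ (cls (g * z * g⁻¹)) := by
    have hcomm : w * (g * z * g⁻¹) = (g * z * g⁻¹) * w :=
      (Subgroup.mem_centralizer_singleton_iff.mp (hP₂ hgz)).symm
    exact same_type T₁ T₂ ha hb hc₁ hc₂ w _ hgz1 hcomm
      (coprime_orderOf_of_mem hpb (Q : Subgroup G) (P₂ : Subgroup G) Q.isPGroup' P₂.isPGroup'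
        w _ hwQ hgz) hw2
  rw [cls_conj] at hgz2
  exact hb z ⟨hz2, hgz2⟩

end Cfsg.Agent.Lib.Helper88.Chen
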