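import Mathlib
import Cfsg.Agent.Lib.Helper88.Chen.Defs
import Cfsg.Agent.Lib.Helper88.Chen.ChenA
import Cfsg.Agent.Lib.Helper88.Chen.ChenKey
import Cfsg.Agent.Lib.Helper88.Chen.ChenKey0
import Cfsg.Agent.Lib.Helper81.ChenM

/-!
# Project CHEN (helper88) = S4184: assembly
-/

set_option autoImplicit false

namespace Cfsg.Agent.Lib.Helper88.Chen

theorem div_cls_eq {M : Type*} [Group M] [Finite M] (y : M) :
    Nat.card M / cls y = Nat.card (Subgroup.centralizer ({y} : Set M)) := by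
  have h1 := card_centralizer_mul_cls y
  exact Nat.div_eq_of_eq_mul_left (cls_pos y) h1.symm

theorem TA_mono {A : Set ℕ} {m n n' : ℕ} (h1 : n ∣ n') (h2 : n' ∣ m) (h : TA A m n) : TA A m n' := by
  intro b hb hbA hdvd
  exact h b hb hbA (hdvd.trans (Nat.div_dvd_div_left h2 h1))

theorem TB_mono {A : Set ℕ} {m n n' : ℕ} (h1 : n ∣ n') (h2 : n' ∣ m) (h : TB A m n) : TB A m n' := by
  intro b hb hbA hdvd
  exact h b hb hbA (hdvd.trans (Nat.div_dvd_div_left h2 h1))

theorem dvd_of_not_dvd_div {m n q : ℕ} (hq : q.Prime) (hn : n ∣ m) (hqm : q ∣ m) (h : ¬ q ∣ m / n) :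
    q ∣ n := by
  have h1 : m = n * (m / n) := (Nat.mul_div_cancel' hn).symm
  rw [h1] at hqm
  exact (hq.dvd_mul.mp hqm).resolve_right h

theorem factorization_eq_of_not_dvd_div {m n p : ℕ} (hm : m ≠ 0) (hn : n ∣ m)
    (h : ¬ p ∣ m / n) : n.factorization p = m.factorization p := by
  have h1 : m = n * (m / n) := (Nat.mul_div_cancel' hn).symm
  have hn0 : n ≠ 0 := by
    rintro rfl
    rw [zero_mul] at h1
    exact hm h1
  have hd0 : m / n ≠ 0 := by
    intro h0
    rw [h0, mul_zero] at h1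
    exact hm h1
  have h2 : m.factorization p = n.factorization p + (m / n).factorization p := by
    conv_lhs => rw [h1]
    rw [Nat.factorization_mul hn0 hd0]
    rfl
  rw [h2, Nat.factorization_eq_zero_of_not_dvd h, add_zero]

/-- Chen's lemma, with the set of primes `A` given -/
theorem chen_main {G M : Type*} [Group G] [Finite G] [Group M] [Finite M]
    (hZG : Subgroup.center G = ⊥)
    (h : Set.range (fun g : G => cls g) = Set.range (fun g : M => cls g))
    (A : Set ℕ) (a₀ : ℕ) (ha₀A : a₀ ∈ A) (ha₀ : a₀.Prime) (ha₀M : a₀ ∣ Nat.card M)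
    (b₀ : ℕ) (hb₀A : b₀ ∉ A) (hb₀ : b₀.Prime) (hb₀M : b₀ ∣ Nat.card M)
    (hA : ∀ a ∈ A, ∀ b ∉ A, a.Prime → b.Prime → a ∣ Nat.card M → b ∣ Nat.card M →
      ¬ ∃ x : M, orderOf x = a * b) :
    Nat.card G = Nat.card M := by
  classical
  haveI : Fact a₀.Prime := ⟨ha₀⟩
  haveI : Fact b₀.Prime := ⟨hb₀⟩
  have hm0 : Nat.card M ≠ 0 := Nat.card_pos.ne'
  have hg0 : Nat.card G ≠ 0 := Nat.card_pos.ne'
  -- transfer of class sizes
  have hGM : ∀ x : G, ∃ y : M, cls y = cls x := by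
    intro x
    have h1 : cls x ∈ Set.range (fun g : M => cls g) := by rw [← h]; exact ⟨x, rfl⟩
    exact h1
  have hMG : ∀ y : M, ∃ x : G, cls x = cls y := by
    intro y
    have h1 : cls y ∈ Set.range (fun g : G => cls g) := by rw [h]; exact ⟨y, rfl⟩
    exact h1
  have hdvdm : ∀ x : G, cls x ∣ Nat.card M := by
    intro x
    obtain ⟨y, hy⟩ := hGM x
    rw [← hy]; exact cls_dvd_card y
  -- M-side facts
  have hM2 : ∀ y : M, y ≠ 1 → TA A (Nat.card M) (cls y) ∨ TB A (Nat.card M) (cls y) := by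
    intro y hy
    have h1 : orderOf y ≠ 1 := fun h1 => hy (orderOf_eq_one_iff.mp h1)
    obtain ⟨r, hr, hry⟩ := Nat.exists_prime_and_dvd h1
    by_cases hrA : r ∈ A
    · left
      intro b hb hbA
      rw [div_cls_eq]
      exact typeA_of_prime_dvd A hA y r hr hry hrA b hb hbA
    · right
      intro a ha haA
      rw [div_cls_eq]
      exact typeB_of_prime_dvd A hA y r hr hry hrA a ha haA
  have hM3 : ∀ y : M, ¬ (TA A (Nat.card M) (cls y) ∧ TB A (Nat.card M) (cls y)) := by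
    rintro y ⟨h1, h2⟩
    by_cases hy : y = 1
    · have h3 : cls y = 1 := by rw [cls_eq_one_iff, hy]; exact one_mem _
      rw [h3] at h2
      exact h2 a₀ ha₀ ha₀A (by rwa [Nat.div_one])
    · have h3 : orderOf y ≠ 1 := fun h3 => hy (orderOf_eq_one_iff.mp h3)
      obtain ⟨r, hr, hry⟩ := Nat.exists_prime_and_dvd h3
      have h4 : r ∣ Nat.card M / cls y := by
        rw [div_cls_eq]
        exact hry.trans (Subgroup.orderOf_dvd_natCard _
          (Subgroup.mem_centralizer_singleton_iff.mpr rfl))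
      by_cases hrA : r ∈ A
      · exact h2 r hr hrA h4
      · exact h1 r hr hrA h4
  -- G-side facts
  have hG1 : ∀ x : G, x ≠ 1 → TA A (Nat.card M) (cls x) ∨ TB A (Nat.card M) (cls x) := by
    intro x hx
    have h1 : cls x ≠ 1 := by
      intro h1
      have h2 := (cls_eq_one_iff x).mp h1
      rw [hZG, Subgroup.mem_bot] at h2
      exact hx h2
    obtain ⟨y, hy⟩ := hGM x
    have hy1 : y ≠ 1 := by
      rintro rfl
      apply h1
      rw [← hy, cls_eq_one_iff]; exact one_mem _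
    rw [← hy]; exact hM2 y hy1
  have hG1' : ∀ x : G, x ≠ 1 → TB A (Nat.card M) (cls x) ∨ TA A (Nat.card M) (cls x) :=
    fun x hx => (hG1 x hx).symm
  have hG2 : ∀ x : G, ¬ (TA A (Nat.card M) (cls x) ∧ TB A (Nat.card M) (cls x)) := by
    intro x
    obtain ⟨y, hy⟩ := hGM x
    rw [← hy]; exact hM3 y
  have hG2' : ∀ x : G, ¬ (TB A (Nat.card M) (cls x) ∧ TA A (Nat.card M) (cls x)) :=
    fun x hx => hG2 x ⟨hx.2, hx.1⟩
  have hcA : ∀ x y : G, cls x ∣ cls y → TA A (Nat.card M) (cls x) → TA A (Nat.card M) (cls y) :=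
    fun x y hxy hx => TA_mono hxy (hdvdm y) hx
  have hcB : ∀ x y : G, cls x ∣ cls y → TB A (Nat.card M) (cls x) → TB A (Nat.card M) (cls y) :=
    fun x y hxy hx => TB_mono hxy (hdvdm y) hx
  have hiA : ∀ x : G, TA A (Nat.card M) (cls x) → b₀ ∣ cls x :=
    fun x hx => dvd_of_not_dvd_div hb₀ (hdvdm x) hb₀M (hx b₀ hb₀ hb₀A)
  have hiB : ∀ x : G, TB A (Nat.card M) (cls x) → a₀ ∣ cls x :=
    fun x hx => dvd_of_not_dvd_div ha₀ (hdvdm x) ha₀M (hx a₀ ha₀ ha₀A)
  have hiiB : ∀ p : ℕ, p.Prime → p ∈ A → ∀ x : G, TB A (Nat.card M) (cls x) →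
      (cls x).factorization p = (Nat.card M).factorization p :=
    fun p hp hpA x hx => factorization_eq_of_not_dvd_div hm0 (hdvdm x) (hx p hp hpA)
  have hiiA : ∀ p : ℕ, p.Prime → p ∉ A → ∀ x : G, TA A (Nat.card M) (cls x) →
      (cls x).factorization p = (Nat.card M).factorization p :=
    fun p hp hpA x hx => factorization_eq_of_not_dvd_div hm0 (hdvdm x) (hx p hp hpA)
  -- elements of both types exist in `G`
  obtain ⟨xB, hxB⟩ : ∃ x : G, TB A (Nat.card M) (cls x) := by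
    obtain ⟨y, hy⟩ := exists_prime_orderOf_dvd_card' (G := M) b₀ hb₀M
    obtain ⟨x, hx⟩ := hMG y
    refine ⟨x, ?_⟩
    rw [hx]
    intro a ha haA
    rw [div_cls_eq]
    exact typeB_of_prime_dvd A hA y b₀ hb₀ (by rw [hy]) hb₀A a ha haA
  obtain ⟨xA, hxA⟩ : ∃ x : G, TA A (Nat.card M) (cls x) := by
    obtain ⟨y, hy⟩ := exists_prime_orderOf_dvd_card' (G := M) a₀ ha₀M
    obtain ⟨x, hx⟩ := hMG y
    refine ⟨x, ?_⟩
    rw [hx]
    intro b hb hbA
    rw [div_cls_eq]
    exact typeA_of_prime_dvd A hA y a₀ ha₀ (by rw [hy]) ha₀A b hb hbA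
  -- lower bound on the valuations of `|G|`
  have hge : ∀ p : ℕ, p.Prime → (Nat.card M).factorization p ≤ (Nat.card G).factorization p := by
    intro p hp
    by_cases hpA : p ∈ A
    · rw [← hiiB p hp hpA xB hxB]
      exact (Nat.factorization_le_iff_dvd (cls_pos xB).ne' hg0).mpr (cls_dvd_card xB) p
    · rw [← hiiA p hp hpA xA hxA]
      exact (Nat.factorization_le_iff_dvd (cls_pos xA).ne' hg0).mpr (cls_dvd_card xA) p
  have hdvdG : ∀ q : ℕ, q.Prime → q ∣ Nat.card M → q ∣ Nat.card G := by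
    intro q hq hqM
    have h1 : 1 ≤ (Nat.card M).factorization q :=
      (hq.dvd_iff_one_le_factorization hm0).mp hqM
    exact (hq.dvd_iff_one_le_factorization hg0).mpr (h1.trans (hge q hq))
  -- upper bound
  have hle : ∀ p : ℕ, p.Prime → (Nat.card G).factorization p ≤ (Nat.card M).factorization p := by
    intro p hp
    by_contra hlt
    push Not at hlt
    haveI : Fact p.Prime := ⟨hp⟩
    by_cases hf : (Nat.card M).factorization p = 0
    · -- `p` does not divide `|M|`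
      have hpM : ¬ p ∣ Nat.card M := by
        intro hpM
        have := (hp.dvd_iff_one_le_factorization hm0).mp hpM
        omega
      have hpa : p ≠ a₀ := by rintro rfl; exact hpM ha₀M
      have hpb : p ≠ b₀ := by rintro rfl; exact hpM hb₀M
      have hpG : p ∣ Nat.card G :=
        (hp.dvd_iff_one_le_factorization hg0).mpr (by omega)
      exact key0 (TA A (Nat.card M)) (TB A (Nat.card M)) hG1 hG2 hcA hcB p a₀ b₀ hpa hpb
        (hdvdG a₀ ha₀ ha₀M) (hdvdG b₀ hb₀ hb₀M) hiA hiB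
        (fun x hx => hpM (hx.trans (hdvdm x))) hpG
    · by_cases hpA : p ∈ A
      · have hpb : p ≠ b₀ := by rintro rfl; exact hb₀A hpA
        exact key (TA A (Nat.card M)) (TB A (Nat.card M)) hG1 hG2 hcA hcB p b₀ hpb
          (hdvdG b₀ hb₀ hb₀M) hiA _ hf (hiiB p hp hpA) hlt
      · have hpa : p ≠ a₀ := by rintro rfl; exact hpA ha₀A
        exact key (TB A (Nat.card M)) (TA A (Nat.card M)) hG1' hG2' hcB hcA p a₀ hpa
          (hdvdG a₀ ha₀ ha₀M) hiB _ hf (hiiA p hp hpA) hlt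
  apply Nat.eq_of_factorization_eq hg0 hm0
  intro p
  by_cases hp : p.Prime
  · exact le_antisymm (hle p hp) (hge p hp)
  · rw [Nat.factorization_eq_zero_of_not_prime _ hp, Nat.factorization_eq_zero_of_not_prime _ hp]

end Cfsg.Agent.Lib.Helper88.Chen
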